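import Groth.Agent.Lib.VBEmbed18.Main
import Groth.Agent.Lib.SerreCl8.Main
import Groth.Agent.Lib.FPExt12.Extra
import Mathlib.CategoryTheory.Limits.Constructions.Filtered

/-!
Generating families of modules via embeddings of affine morphisms.
-/

set_option autoImplicit false
set_option linter.style.haveILetI false
set_option backward.isDefEq.respectTransparency false
set_option backward.isDefEq.respectTransparency.types false
set_option backward.defeqAttrib.useBackward true
set_option maxHeartbeats 1600000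

universe u

open CategoryTheory CategoryTheory.Limits AlgebraicGeometry Opposite TopologicalSpace

noncomputable section

namespace Groth.Agent.VBEmbed18

open SymAlg11

variable {X Y : Scheme.{u}}

/-- An algebra map onto a direct image, surjective on affine opens, gives a closed immersion. -/
theorem isClosedImmersion_lift (f : Y ⟶ X) [IsAffineHom f] {A : RelSpec.QCAlg X}
    (ψ : A ⟶ RelSpec.QCAlg.directImage f)
    (hψ : ∀ U : X.Opens, IsAffineOpen U → Function.Surjective (ψ.hom.app (op U)).hom) :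
    IsClosedImmersion (QCGen12.lift A f ψ.hom) := by
  have hi : QCGen12.lift A f ψ.hom ≫ A.π = f := QCGen12.lift_π A f ψ.hom ψ.comm
  let 𝒰 : Scheme.OpenCover.{u} A.spec := Scheme.Cover.mkOfCovers X.affineOpens
    (fun U => Spec (A.presheaf.obj (op U.1))) (fun U => A.ι U.1 U.2) (fun x => by
      obtain ⟨U, hU, hxU, -⟩ := exists_isAffineOpen_mem_and_subset (X := X) (x := A.π x) (U := ⊤) trivial
      obtain ⟨z, hz⟩ := (A.π_preimage U hU).le hxU
      exact ⟨⟨U, hU⟩, z, hz⟩)
  refine IsZariskiLocalAtTarget.of_openCover 𝒰 fun U => ?_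
  let U₁ : X.affineOpens := U
  have hsq : IsPullback ((f ⁻¹ᵁ U₁.1).toSpecΓ ≫ Spec.map (ψ.hom.app (op U₁.1))) (f ⁻¹ᵁ U₁.1).ι
      (A.ι U₁.1 U₁.2) (QCGen12.lift A f ψ.hom) := by
    refine IsOpenImmersion.isPullback _ _ _ _ ?_ ?_
    · rw [QCGen12.ι_lift, Category.assoc]
    · rw [Scheme.Opens.opensRange_ι, ← A.π_preimage U₁.1 U₁.2, ← Scheme.Hom.comp_preimage, hi]
  change IsClosedImmersion (pullback.snd (QCGen12.lift A f ψ.hom) (A.ι U₁.1 U₁.2))
  rw [← hsq.flip.isoPullback_inv_snd]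
  haveI : IsClosedImmersion (Spec.map (ψ.hom.app (op U₁.1))) :=
    IsClosedImmersion.spec_of_surjective _ (hψ U₁.1 U₁.2)
  haveI : IsAffine (f ⁻¹ᵁ U₁.1).toScheme := U₁.2.preimage f
  haveI : IsIso (f ⁻¹ᵁ U₁.1).toSpecΓ := by
    rw [← (U₁.2.preimage f).isoSpec_hom]; infer_instance
  exact MorphismProperty.RespectsIso.precomp @IsClosedImmersion hsq.flip.isoPullback.inv _
    (MorphismProperty.RespectsIso.precomp @IsClosedImmersion (f ⁻¹ᵁ U₁.1).toSpecΓ _
      (inferInstance : IsClosedImmersion (Spec.map (ψ.hom.app (op U₁.1)))))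

/-- Finitely many summands suffice to cover a finite type module. -/
theorem exists_finite_epi [CompactSpace X] {κ : Type u} (G : κ → X.Modules) {F : X.Modules}
    (hF : Coh.IsQCoh F) (hFT : CohB1.IsFT F) (p : (∐ G) ⟶ F) [Epi p] :
    ∃ (κ' : Type u) (_ : Finite κ') (a : κ' → κ) (p' : (∐ fun k => G (a k)) ⟶ F), Epi p' := by
  classical
  let hc := CoproductsFromFiniteFiltered.isColimitFiniteSubproductsCocone G
  haveI : Epi (show (CoproductsFromFiniteFiltered.finiteSubcoproductsCocone G).pt ⟶ F from p) := ‹Epi p›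
  obtain ⟨s, hs⟩ := FPExt12.exists_epi_stage_comp hc hF hFT p
  exact ⟨{x // x ∈ s}, inferInstance, fun x => x.1.as, _, hs s ⟨𝟙 _⟩⟩

theorem main_gen (X : Scheme.{u}) [CompactSpace X] [QuasiSeparatedSpace X]
    {ι : Type u} (E : ι → X.Modules) (hE : ∀ i, Coh.IsQCoh (E i)) :
    (∀ M : X.Modules, Coh.IsQCoh M → ∃ (κ : Type u) (j : κ → ι) (π : (∐ fun k : κ => E (j k)) ⟶ M), Epi π) ↔
    (∀ (Y : Scheme.{u}) (f : Y ⟶ X) [IsAffineHom f],
      ∃ (κ : Type u) (j : κ → ι) (B : RelSpec.QCAlg X) (φ : (∐ fun k : κ => E (j k)) ⟶ B.toModule) (c : Y ⟶ B.spec),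
        RelSpec.IsSymAlg (∐ fun k : κ => E (j k)) B φ ∧ IsClosedImmersion c ∧ c ≫ B.π = f ∧
        (LocallyOfFiniteType f → Finite κ)) := by
  refine ⟨fun h Y f _ => ?_, fun h M hM => ?_⟩
  · by_cases hf : LocallyOfFiniteType f
    · haveI := hf
      obtain ⟨F, hF, A, jA, hA, i, hi, hif⟩ := AffEmbed3.exists_embedding f
      obtain ⟨κ, j, p, hp⟩ := h F hF.1
      haveI := hp
      obtain ⟨κ', hκ', a, p', hp'⟩ := exists_finite_epi (fun k => E (j k)) hF.1 hF.2 p
      haveI := hp'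
      have hG : Coh.IsQCoh (∐ fun k : κ' => E (j (a k))) := SerreCl8.isQCoh_sigma _ fun _ => hE _
      obtain ⟨B, φ, hB⟩ := S8270.result _ hG
      obtain ⟨ψ, hψ, -⟩ := hB A (p' ≫ jA)
      haveI := hi
      haveI := S8268.result _ F hG hF.1 p' B A φ jA hB hA ψ hψ
      exact ⟨κ', fun k => j (a k), B, φ, i ≫ RelSpec.QCAlg.specMap ψ, hB, inferInstance,
        by rw [Category.assoc, RelSpec.QCAlg.specMap_π, hif], fun _ => hκ'⟩
    · let D := RelSpec.QCAlg.directImage f
      have hD : Coh.IsQCoh D.toModule := M1.QC.isQCoh_toModule (B := D)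
      obtain ⟨κ, j, p, hp⟩ := h D.toModule hD
      haveI := hp
      have hG : Coh.IsQCoh (∐ fun k : κ => E (j k)) := SerreCl8.isQCoh_sigma _ fun _ => hE _
      obtain ⟨B, φ, hB⟩ := S8270.result _ hG
      obtain ⟨ψ, hψ, -⟩ := hB D p
      have hsurj : ∀ U : X.Opens, IsAffineOpen U → Function.Surjective (ψ.hom.app (op U)).hom := fun U hU x => by
        obtain ⟨e, he⟩ := M1.app_surjective_affine_of_isQCoh hG hD p hU x
        refine ⟨φ.app U e, ?_⟩
        exact (ConcreteCategory.congr_hom (congrArg (fun g => Scheme.Modules.Hom.app g U) hψ) e).trans he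
      exact ⟨κ, j, B, φ, QCGen12.lift B f ψ.hom, hB, isClosedImmersion_lift f ψ hsurj,
        QCGen12.lift_π B f ψ.hom ψ.comm, fun h' => absurd h' hf⟩
  · obtain ⟨κ, j, B, φ, c, hB, hc, hcf, -⟩ := h (symQC hM).spec (symQC hM).π
    haveI := hc
    have hG : Coh.IsQCoh (∐ fun k : κ => E (j k)) := SerreCl8.isQCoh_sigma _ fun _ => hE _
    obtain ⟨π, hπ⟩ := exists_epi_of_embedding hM hG B φ hB c hcf
    exact ⟨κ, j, π, hπ⟩

end Groth.Agent.VBEmbed18
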