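import Groth.Agent.Lib.AffEmbed3.Main
import Groth.Agent.Lib.SymAlg11.Sheaf
import Groth.Agent.Lib.RelSpecB.Basic
import Groth.Agent.Lib.ModM1.FT
import Groth.Agent.S8267
import Groth.Agent.S8268
import Groth.Prelude.Def_PerfAux
import Groth.Prelude.Def_AffAlg
import Groth.Agent.Lib.TensorMod.Invertible

/-!
The resolution property and closed embeddings into vector bundles.
-/

set_option autoImplicit false
set_option linter.style.haveILetI false
set_option backward.isDefEq.respectTransparency false
set_option backward.isDefEq.respectTransparency.types false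
set_option maxHeartbeats 1600000

universe u

open CategoryTheory CategoryTheory.Limits AlgebraicGeometry Opposite TopologicalSpace

noncomputable section

namespace Groth.Agent.VBEmbed18

open SymAlg11
open Scheme.AffineZariskiSite (toOpens toOpens_mono toOpensFunctor)

variable {S : Scheme.{u}}

section Degree

variable {R M : Type u} [CommRing R] [AddCommGroup M] [Module R M]

/-- The map to the square-zero extension. -/
def toTSZ : letI : Module Rᵐᵒᵖ M := Module.compHom M ((RingHom.id R).fromOpposite mul_comm)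
    haveI : IsCentralScalar R M := ⟨fun _ _ => rfl⟩
    SymmetricAlgebra R M →+* TrivSqZeroExt R M :=
  letI : Module Rᵐᵒᵖ M := Module.compHom M ((RingHom.id R).fromOpposite mul_comm)
  haveI : IsCentralScalar R M := ⟨fun _ _ => rfl⟩
  symLift (TrivSqZeroExt.inlHom R M) (TrivSqZeroExt.inrHom R M).toAddMonoidHom fun r m => by
    change TrivSqZeroExt.inr (r • m) = TrivSqZeroExt.inl r * TrivSqZeroExt.inr m
    rw [TrivSqZeroExt.inl_mul_inr]

/-- The degree one part. -/
def deg1 : SymmetricAlgebra R M →+ M :=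
  letI : Module Rᵐᵒᵖ M := Module.compHom M ((RingHom.id R).fromOpposite mul_comm)
  haveI : IsCentralScalar R M := ⟨fun _ _ => rfl⟩
  AddMonoidHom.mk' (fun a => TrivSqZeroExt.snd (toTSZ a)) fun a b => by rw [map_add, TrivSqZeroExt.snd_add]

theorem deg1_algebraMap (r : R) : deg1 (algebraMap R (SymmetricAlgebra R M) r) = 0 := by
  letI : Module Rᵐᵒᵖ M := Module.compHom M ((RingHom.id R).fromOpposite mul_comm)
  haveI : IsCentralScalar R M := ⟨fun _ _ => rfl⟩
  change TrivSqZeroExt.snd (toTSZ (algebraMap R (SymmetricAlgebra R M) r)) = 0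
  rw [toTSZ, symLift_algebraMap]
  rfl

theorem deg1_ι (m : M) : deg1 (SymmetricAlgebra.ι R M m) = m := by
  letI : Module Rᵐᵒᵖ M := Module.compHom M ((RingHom.id R).fromOpposite mul_comm)
  haveI : IsCentralScalar R M := ⟨fun _ _ => rfl⟩
  change TrivSqZeroExt.snd (toTSZ (SymmetricAlgebra.ι R M m)) = m
  rw [toTSZ, symLift_ι]
  rfl

/-- The degree zero part. -/
def deg0 : SymmetricAlgebra R M →+* R :=
  symLift (RingHom.id R) 0 fun r m => (mul_zero r).symm

theorem deg1_mul (a b : SymmetricAlgebra R M) : deg1 (a * b) = deg0 a • deg1 b + deg0 b • deg1 a := by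
  letI : Module Rᵐᵒᵖ M := Module.compHom M ((RingHom.id R).fromOpposite mul_comm)
  haveI : IsCentralScalar R M := ⟨fun _ _ => rfl⟩
  have e : ∀ c : SymmetricAlgebra R M, TrivSqZeroExt.fst (toTSZ c) = deg0 c := fun c => by
    induction c using SymmetricAlgebra.induction with
    | algebraMap r => rw [toTSZ, deg0, symLift_algebraMap, symLift_algebraMap]; rfl
    | ι x => rw [toTSZ, deg0, symLift_ι, symLift_ι]; rfl
    | mul a b ha hb => rw [map_mul, map_mul, TrivSqZeroExt.fst_mul, ha, hb]
    | add a b ha hb => rw [map_add, map_add, TrivSqZeroExt.fst_add, ha, hb]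
  change TrivSqZeroExt.snd (toTSZ (a * b)) = _
  rw [map_mul, TrivSqZeroExt.snd_mul, e, e]
  rfl

theorem deg1_smul (r : R) (a : SymmetricAlgebra R M) :
    deg1 (algebraMap R (SymmetricAlgebra R M) r * a) = r • deg1 a := by
  rw [deg1_mul, deg1_algebraMap, smul_zero, add_zero]
  congr 1
  exact symLift_algebraMap _ _ _ r

end Degree

variable {M : S.Modules} (hM : Coh.IsQCoh M)

theorem deg1_symRes {U V : S.Opens} (h : V ≤ U) (a : SymOn M U) :
    deg1 (symRes M h a) = M1.mres M h (deg1 a) := by
  have h0 : ∀ c : SymOn M U, deg0 (symRes M h c) = M1.ores h (deg0 c) := fun c => by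
    induction c using SymmetricAlgebra.induction with
    | algebraMap r => rw [symRes_algebraMap, deg0, deg0, symLift_algebraMap, symLift_algebraMap]; rfl
    | ι x =>
      rw [symRes_ι, deg0, deg0, symLift_ι, symLift_ι]
      exact (map_zero (M1.ores h).hom).symm
    | mul a b ha hb => simp only [map_mul, ha, hb]
    | add a b ha hb => simp only [map_add, ha, hb]
  induction a using SymmetricAlgebra.induction with
  | algebraMap r => rw [symRes_algebraMap, deg1_algebraMap, deg1_algebraMap, map_zero]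
  | ι x => rw [symRes_ι, deg1_ι, deg1_ι]
  | mul a b ha hb =>
    rw [map_mul, deg1_mul, deg1_mul, ha, hb, h0, h0, map_add, M1.mres_smul, M1.mres_smul]
  | add a b ha hb => simp only [map_add, ha, hb]

/-- The projection to degree one, on affine opens. -/
def projAff : (toOpensFunctor S).op ⋙ (symQC hM).toAb ⟶ (toOpensFunctor S).op ⋙ M.presheaf where
  app U := AddCommGrpCat.ofHom ((deg1 (R := Γ(S, U.unop.1)) (M := Γ(M, U.unop.1))).comp
    (symEquiv hM U.unop.1 U.unop.2).toRingHom.toAddMonoidHom)
  naturality U V i := by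
    refine AddCommGrpCat.hom_ext (AddMonoidHom.ext fun a => ?_)
    change deg1 (symEquiv hM V.unop.1 V.unop.2
        (((symQC hM).presheaf.map (homOfLE (toOpens_mono i.unop.le)).op).hom a)) =
      M1.mres M (toOpens_mono i.unop.le) (deg1 (symEquiv hM U.unop.1 U.unop.2 a))
    rw [symEquiv_res hM i.unop, deg1_symRes]

/-- The projection to degree one, as a map of abelian presheaves. -/
def projAb : (symQC hM).toAb ⟶ M.presheaf :=
  Functor.IsCoverDense.restrictHomEquivHom (G := toOpensFunctor S)
    (K := Opens.grothendieckTopology S) (ℱ := (symQC hM).toAb)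
    (ℱ' := (⟨M.presheaf, M.isSheaf⟩ : TopCat.Sheaf AddCommGrpCat.{u} S.carrier))
    (projAff hM)

lemma projAb_app (U : S.Opens) (hU : IsAffineOpen U) (a : (symQC hM).presheaf.obj (op U)) :
    (projAb hM).app (op U) a = deg1 (symEquiv hM U hU a) := by
  have h : (toOpensFunctor S).op.whiskerLeft (projAb hM) = projAff hM :=
    (Functor.IsCoverDense.restrictHomEquivHom (G := toOpensFunctor S)
      (K := Opens.grothendieckTopology S) (ℱ := (symQC hM).toAb)
      (ℱ' := (⟨M.presheaf, M.isSheaf⟩ :
        TopCat.Sheaf AddCommGrpCat.{u} S.carrier))).symm_apply_apply _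
  exact ConcreteCategory.congr_hom (NatTrans.congr_app h (op (⟨U, hU⟩ : S.AffineZariskiSite))) a

lemma projAb_smul (U : S.Opens) (r : Γ(S, U)) (a : (symQC hM).presheaf.obj (op U)) :
    (projAb hM).app (op U) (((symQC hM).str.app (op U)).hom r * a) = r • (show Γ(M, U) from (projAb hM).app (op U) a) := by
  have hc : ∀ x ∈ U, ∃ V : {V : S.affineOpens // V.1 ≤ U}, x ∈ V.1.1 := fun x hx => by
    obtain ⟨_, ⟨V, hV, rfl⟩, hxV, hVU⟩ := S.isBasis_affineOpens.exists_subset_of_mem_open hx U.2
    exact ⟨⟨⟨V, hV⟩, hVU⟩, hxV⟩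
  refine M1.modules_eq_of_locally_eq M U (fun V : {V : S.affineOpens // V.1 ≤ U} => V.1.1) (fun V => V.2)
    (fun x hx => TopologicalSpace.Opens.mem_iSup.2 (hc x hx)) _ _ fun V => ?_
  have hn : ∀ x : (symQC hM).presheaf.obj (op U),
      M1.mres M V.2 ((projAb hM).app (op U) x) =
        (projAb hM).app (op V.1.1) (((symQC hM).presheaf.map (homOfLE V.2).op).hom x) := fun x =>
    (ConcreteCategory.congr_hom ((projAb hM).naturality (homOfLE V.2).op) x).symm
  have hs : ((symQC hM).presheaf.map (homOfLE V.2).op).hom (((symQC hM).str.app (op U)).hom r) =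
      ((symQC hM).str.app (op V.1.1)).hom (M1.ores V.2 r) :=
    (ConcreteCategory.congr_hom ((symQC hM).str.naturality (homOfLE V.2).op) r).symm
  rw [M1.mres_smul, hn, hn, map_mul, hs, projAb_app hM _ V.1.2, projAb_app hM _ V.1.2, map_mul,
    symEquiv_str, deg1_smul]

/-- The projection to degree one. -/
def proj : (symQC hM).toModule ⟶ M :=
  ⟨letI := (symQC hM).moduleSect
   PresheafOfModules.homMk (projAb hM) fun U r m => projAb_smul hM U.unop r m⟩

lemma proj_app (U : S.Opens) (hU : IsAffineOpen U) (a : (symQC hM).presheaf.obj (op U)) :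
    (proj hM).app U a = deg1 (symEquiv hM U hU a) :=
  projAb_app hM U hU a

/-- A closed immersion of relative spectra over the base comes from an algebra map surjective on affine opens. -/
theorem exists_hom_surjective {A B : RelSpec.QCAlg S} (i : B.spec ⟶ A.spec) [IsClosedImmersion i]
    (hi : i ≫ A.π = B.π) :
    ∃ ψ : A ⟶ B, ∀ U : S.Opens, IsAffineOpen U → Function.Surjective (ψ.hom.app (op U)).hom := by
  haveI := RelSpecB.isIso_gammaMap A
  haveI := RelSpecB.isIso_gammaMap B
  have hA : A.str ≫ inv A.gammaMap = A.π.c := by rw [IsIso.comp_inv_eq, A.π_c_gammaMap]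
  let ψ : A ⟶ B :=
    { hom := inv A.gammaMap ≫ AffAlg.algHom A.π B.π i hi ≫ B.gammaMap
      comm := by
        rw [reassoc_of% hA, ← Category.assoc, AffAlg.algHom_comm, B.π_c_gammaMap] }
  refine ⟨ψ, fun U hU => ?_⟩
  have h1 : Function.Surjective ((inv A.gammaMap).app (op U)).hom :=
    (ConcreteCategory.bijective_of_isIso ((inv A.gammaMap).app (op U))).2
  have h2 : Function.Surjective (B.gammaMap.app (op U)).hom :=
    (ConcreteCategory.bijective_of_isIso (B.gammaMap.app (op U))).2
  have h3 : Function.Surjective ((AffAlg.algHom A.π B.π i hi).app (op U)).hom := by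
    haveI : IsAffineHom A.π := inferInstance
    have hs := i.app_surjective (A.π ⁻¹ᵁ U) (hU.preimage A.π)
    unfold AffAlg.algHom
    generalize_proofs hp
    intro y
    obtain ⟨y', hy'⟩ := (ConcreteCategory.bijective_of_isIso ((eqToHom hp).app (op U))).2 y
    obtain ⟨a, rfl⟩ := hs y'
    exact ⟨a, hy'⟩
  change Function.Surjective ((inv A.gammaMap).app (op U) ≫ (AffAlg.algHom A.π B.π i hi).app (op U) ≫
    B.gammaMap.app (op U)).hom
  rw [CommRingCat.hom_comp, CommRingCat.hom_comp, RingHom.coe_comp, RingHom.coe_comp]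
  exact (h2.comp h3).comp h1

/-- A closed embedding of `V(M)` into `V(E)` makes `M` a quotient of `E`. -/
theorem exists_epi_of_embedding {E : S.Modules} (hE : Coh.IsQCoh E) (A : RelSpec.QCAlg S) (j : E ⟶ A.toModule)
    (hA : RelSpec.IsSymAlg E A j) (i : (symQC hM).spec ⟶ A.spec) [IsClosedImmersion i]
    (hi : i ≫ A.π = (symQC hM).π) : ∃ π : E ⟶ M, Epi π := by
  obtain ⟨ψ, hψ⟩ := exists_hom_surjective i hi
  let φ : E ⟶ (symQC hM).toModule := j ≫ RelSpec.QCAlg.Hom.toModuleMap ψ
  let π := φ ≫ proj hM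
  have hsurj : ∀ (U : S.Opens), IsAffineOpen U → Function.Surjective (π.app U) := fun U hU x => by
    obtain ⟨a, ha⟩ := hψ U hU ((symEquiv hM U hU).symm (SymmetricAlgebra.ι _ _ x))
    obtain ⟨c, rfl⟩ := (bijective_liftOn hE hA U hU).2 a
    let N : Submodule Γ(S, U) Γ(M, U) :=
      { carrier := Set.range (π.app U)
        add_mem' := by rintro _ _ ⟨a, rfl⟩ ⟨b, rfl⟩; exact ⟨a + b, map_add _ a b⟩
        zero_mem' := ⟨0, map_zero _⟩
        smul_mem' := by rintro r _ ⟨a, rfl⟩; exact ⟨r • a, Scheme.Modules.Hom.app_smul π r a⟩ }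
    have key : ∀ c : SymOn E U,
        deg1 (symEquiv hM U hU ((ψ.hom.app (op U)).hom (liftOn A j U c))) ∈ N := fun c => by
      induction c using SymmetricAlgebra.induction with
      | algebraMap r =>
        rw [liftOn_algebraMap]
        have e : (ψ.hom.app (op U)).hom ((A.str.app (op U)).hom r) = ((symQC hM).str.app (op U)).hom r :=
          ConcreteCategory.congr_hom (NatTrans.congr_app ψ.comm (op U)) r
        rw [e, symEquiv_str, deg1_algebraMap]
        exact N.zero_mem
      | ι m =>
        rw [liftOn_ι]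
        refine ⟨m, ?_⟩
        change (proj hM).app U (φ.app U m) = _
        rw [proj_app hM U hU]
        rfl
      | mul a b ha hb =>
        rw [map_mul, map_mul, map_mul, deg1_mul]
        exact N.add_mem (N.smul_mem _ hb) (N.smul_mem _ ha)
      | add a b ha hb =>
        rw [map_add, map_add, map_add, map_add]
        exact N.add_mem ha hb
    obtain ⟨e, he⟩ := key c
    refine ⟨e, he.trans ?_⟩
    rw [ha, RingEquiv.apply_symm_apply, deg1_ι]
  refine ⟨π, (M1.epi_iff_locally_surjective π).2 fun U s x hx => ?_⟩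
  obtain ⟨V, hV, hxV, hVU⟩ := exists_isAffineOpen_mem_and_subset hx
  obtain ⟨t, ht⟩ := hsurj V hV (M1.mres M hVU s)
  exact ⟨V, hVU, hxV, t, ht⟩

/-- The resolution property via embeddings of affine morphisms into vector bundles. -/
theorem main (S : Scheme.{u}) [IsNoetherian S] :
    PerfAux.HasResolutionProperty S ↔
      ∀ (X : Scheme.{u}) (f : X ⟶ S) [IsAffineHom f] [LocallyOfFiniteType f],
        ∃ (E : S.Modules) (A : RelSpec.QCAlg S) (j : E ⟶ A.toModule) (i : X ⟶ A.spec),
          Coh.IsQCoh E ∧ FlatMod.IsFinLocFree E ∧ RelSpec.IsSymAlg E A j ∧ IsClosedImmersion i ∧ i ≫ A.π = f := by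
  refine ⟨fun h X f _ _ => ?_, fun h M hM hMf => ?_⟩
  · obtain ⟨E, hE, A, j, hA, i, hi, hif⟩ := AffEmbed3.exists_embedding f
    obtain ⟨E', v, hE', hv⟩ := h E hE.1 hE.2
    haveI := hv
    have hE'q : Coh.IsQCoh E' := M2.isQCoh_of_isFinLocFree hE'
    obtain ⟨A', j', hA'⟩ := S8270.result E' hE'q
    obtain ⟨ψ, hψ, -⟩ := hA' A (v ≫ j)
    haveI := hi
    haveI := S8268.result E' E hE'q hE.1 v A' A j' j hA' hA ψ hψ
    refine ⟨E', A', j', i ≫ RelSpec.QCAlg.specMap ψ, hE'q, hE', hA', inferInstance, ?_⟩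
    rw [Category.assoc, RelSpec.QCAlg.specMap_π, hif]
  · haveI := S8267.result M ⟨hM, hMf⟩ (symQC hM) (symGen hM) (isSymAlg_symQC hM)
    obtain ⟨E, A, j, i, hE, hE', hA, hi, hif⟩ := h (symQC hM).spec (symQC hM).π
    haveI := hi
    obtain ⟨π, hπ⟩ := exists_epi_of_embedding hM hE A j hA i hif
    exact ⟨E, π, hE', hπ⟩

end Groth.Agent.VBEmbed18
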